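import Cfsg.Agent.J4Rep94.C3.Data

/-!
# Certificate data
-/

set_option autoImplicit false
set_option maxRecDepth 100000

namespace Cfsg.Agent.J4Rep94.C3

open Cfsg.Agent.CosetEnum

def fv0 : ℕ := 0x61000010005e0024f00002000310000b00224000010005c0024d000020008e000090011a000010005a0024b000020008d0000a00118000010005800249000020008c0000900116000010005600247000020008b0000b00114000010005400245000020008a000090022e00001000520024300002000d00000b0019e00001000500024100002000cf000090019c000010004e0023f00002000ce0000a0019a000010004c0023d00002000cd0000900230000010004a0023b00002000e00000b001be00001000480023900002000df000090023200001000460023700002001100000a0021e000010004400234000020010f0000900042000400003e0003c0003a000380022a001230012500127001290012b0012d0000d0021f00233001bf002310019b0019d0019f0022f0011500117001190011b002250006000001000af000b1000b3000b5000b7000b9002280012e000170009700008001bf002310019b0019d0019f0022f000060021e0021c0021a00218002160021400212002100020e0020c0020a0020800206002040020200200001fe001fc001fa001f8001f6001f4001f2001f0001ee001ec001ea001e8001e6001e4001e2001e0001de001dc001da001d8001d6001d4001d2001d0001ce001cc001ca001c8001c6001c4001c2001c000114000310008a000070019b0019d0019f0022f0011500117001190011b002250006000001000af0000c001be001bc001ba001b8001b6001b4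001b2001b0001ae001ac001aa001a8001a6001a4001a2001a0001670022d0011e0011c000b4000b2000b00001700058000060011500117001190011b0022500221000060019e0019c0019a00198001960019400192001900018e0018c0018a00188001860018400182001800017e0017c0017a00178001760017400172001700016e0016c0016a00168000a7000a9000ab000ad002230002100032000050011e0011c000b4000b2000b0000ae000000006100008001660016400162001600015e0015c0015a00158001560015400152001500014e0014c0014a00148001460014400142001400013e0013c0013a0013800136001340013200130001190011b002250001f0003100004000360000100120000010001b00000000b8000b6000b4000b2000b0002260000500007000090000b0000a0012e0012c0012a00128001260012400122001200003400032000300002e0002c0002a00028000260002400022000200001e0001c0001a00018000160001400012000100000e0000c0001d0000600003000ae000010000200001000010000000060000010011a00118001160011400112001100010e0010c0010a0010800106001040010200100000fe000fc000fa000f8000f6000f4000f2000f0000ee000ec000ea000e8000e6000e4000e2000e0000de000dc000da000d8000d6000d4000d2000d0000ce000cc000ca000c8000c6000c4000c2000c0000be000bc000ba00008000060000400002000000003600000000020006200001000ac000aa000a8000a6000a4000a2000a00009e0009c0009a00098000960009400092000900008e0008c0008a00088000860008400082000800007e0007c0007a00078000760007400072000700006e0006c0006a0006800066000640000c0000a00008000060000400002000000002c0000000001000620000100060000010000000000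
theorem fok0 : sys.checkFacts 272 25 fv0 = true := by decide +kernel


end Cfsg.Agent.J4Rep94.C3
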